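import Cfsg.Agent.Lib.Fischer.L24.D

set_option autoImplicit false
set_option maxRecDepth 100000

namespace Cfsg.Agent.Fi.L24

open Cfsg.Agent.PC

theorem p0 : Nat.beq (rng f1 (nat_lit 0) (nat_lit 64)) (nat_lit 0) = true := by decide +kernel
theorem p64 : Nat.beq (rng f1 (nat_lit 64) (nat_lit 64)) (nat_lit 0) = true := by decide +kernel
theorem p128 : Nat.beq (rng f1 (nat_lit 128) (nat_lit 64)) (nat_lit 0) = true := by decide +kernel
theorem p192 : Nat.beq (rng f1 (nat_lit 192) (nat_lit 64)) (nat_lit 0) = true := by decide +kernel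
theorem p256 : Nat.beq (rng f1 (nat_lit 256) (nat_lit 64)) (nat_lit 0) = true := by decide +kernel
theorem p320 : Nat.beq (rng f1 (nat_lit 320) (nat_lit 64)) (nat_lit 0) = true := by decide +kernel
theorem p384 : Nat.beq (rng f1 (nat_lit 384) (nat_lit 32)) (nat_lit 0) = true := by decide +kernel
theorem c0 : Nat.beq (rng f2 (nat_lit 0) (nat_lit 3000)) (nat_lit 0) = true := by decide +kernel
theorem c3000 : Nat.beq (rng f2 (nat_lit 3000) (nat_lit 3000)) (nat_lit 0) = true := by decide +kernel
theorem c6000 : Nat.beq (rng f2 (nat_lit 6000) (nat_lit 3000)) (nat_lit 0) = true := by decide +kernel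
theorem c9000 : Nat.beq (rng f2 (nat_lit 9000) (nat_lit 3000)) (nat_lit 0) = true := by decide +kernel
theorem c12000 : Nat.beq (rng f2 (nat_lit 12000) (nat_lit 3000)) (nat_lit 0) = true := by decide +kernel

end Cfsg.Agent.Fi.L24
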