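import Cfsg.Agent.Lib.Fischer.L24.D

set_option autoImplicit false
set_option maxRecDepth 100000

namespace Cfsg.Agent.Fi.L24

open Cfsg.Agent.PC

theorem c15000 : Nat.beq (rng f2 (nat_lit 15000) (nat_lit 3000)) (nat_lit 0) = true := by decide +kernel
theorem c18000 : Nat.beq (rng f2 (nat_lit 18000) (nat_lit 3000)) (nat_lit 0) = true := by decide +kernel
theorem c21000 : Nat.beq (rng f2 (nat_lit 21000) (nat_lit 3000)) (nat_lit 0) = true := by decide +kernel
theorem c24000 : Nat.beq (rng f2 (nat_lit 24000) (nat_lit 3000)) (nat_lit 0) = true := by decide +kernel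
theorem c27000 : Nat.beq (rng f2 (nat_lit 27000) (nat_lit 3000)) (nat_lit 0) = true := by decide +kernel
theorem c30000 : Nat.beq (rng f2 (nat_lit 30000) (nat_lit 1671)) (nat_lit 0) = true := by decide +kernel
theorem q0 : Nat.beq (rng f3 (nat_lit 0) (nat_lit 32)) (nat_lit 0) = true := by decide +kernel
theorem q32 : Nat.beq (rng f3 (nat_lit 32) (nat_lit 32)) (nat_lit 0) = true := by decide +kernel
theorem q64 : Nat.beq (rng f3 (nat_lit 64) (nat_lit 32)) (nat_lit 0) = true := by decide +kernel
theorem q96 : Nat.beq (rng f3 (nat_lit 96) (nat_lit 32)) (nat_lit 0) = true := by decide +kernel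
theorem q128 : Nat.beq (rng f3 (nat_lit 128) (nat_lit 32)) (nat_lit 0) = true := by decide +kernel
theorem q160 : Nat.beq (rng f3 (nat_lit 160) (nat_lit 32)) (nat_lit 0) = true := by decide +kernel

end Cfsg.Agent.Fi.L24
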