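import Cfsg.Agent.Lib.Fischer.L24.D

set_option autoImplicit false
set_option maxRecDepth 100000

namespace Cfsg.Agent.Fi.L24

open Cfsg.Agent.PC

theorem q192 : Nat.beq (rng f3 (nat_lit 192) (nat_lit 32)) (nat_lit 0) = true := by decide +kernel
theorem q224 : Nat.beq (rng f3 (nat_lit 224) (nat_lit 32)) (nat_lit 0) = true := by decide +kernel
theorem q256 : Nat.beq (rng f3 (nat_lit 256) (nat_lit 32)) (nat_lit 0) = true := by decide +kernel
theorem q288 : Nat.beq (rng f3 (nat_lit 288) (nat_lit 32)) (nat_lit 0) = true := by decide +kernel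
theorem q320 : Nat.beq (rng f3 (nat_lit 320) (nat_lit 32)) (nat_lit 0) = true := by decide +kernel
theorem q352 : Nat.beq (rng f3 (nat_lit 352) (nat_lit 32)) (nat_lit 0) = true := by decide +kernel
theorem q384 : Nat.beq (rng f3 (nat_lit 384) (nat_lit 32)) (nat_lit 0) = true := by decide +kernel
theorem q416 : Nat.beq (rng f3 (nat_lit 416) (nat_lit 32)) (nat_lit 0) = true := by decide +kernel
theorem q448 : Nat.beq (rng f3 (nat_lit 448) (nat_lit 32)) (nat_lit 0) = true := by decide +kernel
theorem q480 : Nat.beq (rng f3 (nat_lit 480) (nat_lit 32)) (nat_lit 0) = true := by decide +kernel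
theorem q512 : Nat.beq (rng f3 (nat_lit 512) (nat_lit 32)) (nat_lit 0) = true := by decide +kernel
theorem q544 : Nat.beq (rng f3 (nat_lit 544) (nat_lit 32)) (nat_lit 0) = true := by decide +kernel

end Cfsg.Agent.Fi.L24
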