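import Cfsg.Agent.Lib.Fischer.L24.D

set_option autoImplicit false
set_option maxRecDepth 100000

namespace Cfsg.Agent.Fi.L24

open Cfsg.Agent.PC

theorem q576 : Nat.beq (rng f3 (nat_lit 576) (nat_lit 32)) (nat_lit 0) = true := by decide +kernel
theorem q608 : Nat.beq (rng f3 (nat_lit 608) (nat_lit 32)) (nat_lit 0) = true := by decide +kernel
theorem q640 : Nat.beq (rng f3 (nat_lit 640) (nat_lit 32)) (nat_lit 0) = true := by decide +kernel

end Cfsg.Agent.Fi.L24
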