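import Cfsg.Agent.Lib.Fischer.L24.R0
import Cfsg.Agent.Lib.Fischer.L24.R1
import Cfsg.Agent.Lib.Fischer.L24.R2
import Cfsg.Agent.Lib.Fischer.L24.R3
import Cfsg.Agent.Lib.Fischer.X23.Tr

set_option autoImplicit false
set_option maxRecDepth 100000

namespace Cfsg.Agent.Fi.L24

open Cfsg.Agent.PC

theorem hf1 : ∀ i < 416, f1 i = 0 := by
  have h := zero_lt_zero f1
  have h := zero_lt_add (a := (nat_lit 0)) (n := (nat_lit 64)) (b := (nat_lit 64)) h p0 rfl
  have h := zero_lt_add (a := (nat_lit 64)) (n := (nat_lit 64)) (b := (nat_lit 128)) h p64 rfl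
  have h := zero_lt_add (a := (nat_lit 128)) (n := (nat_lit 64)) (b := (nat_lit 192)) h p128 rfl
  have h := zero_lt_add (a := (nat_lit 192)) (n := (nat_lit 64)) (b := (nat_lit 256)) h p192 rfl
  have h := zero_lt_add (a := (nat_lit 256)) (n := (nat_lit 64)) (b := (nat_lit 320)) h p256 rfl
  have h := zero_lt_add (a := (nat_lit 320)) (n := (nat_lit 64)) (b := (nat_lit 384)) h p320 rfl
  have h := zero_lt_add (a := (nat_lit 384)) (n := (nat_lit 32)) (b := (nat_lit 416)) h p384 rfl
  exact h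
theorem hf2 : ∀ i < 31671, f2 i = 0 := by
  have h := zero_lt_zero f2
  have h := zero_lt_add (a := (nat_lit 0)) (n := (nat_lit 3000)) (b := (nat_lit 3000)) h c0 rfl
  have h := zero_lt_add (a := (nat_lit 3000)) (n := (nat_lit 3000)) (b := (nat_lit 6000)) h c3000 rfl
  have h := zero_lt_add (a := (nat_lit 6000)) (n := (nat_lit 3000)) (b := (nat_lit 9000)) h c6000 rfl
  have h := zero_lt_add (a := (nat_lit 9000)) (n := (nat_lit 3000)) (b := (nat_lit 12000)) h c9000 rfl
  have h := zero_lt_add (a := (nat_lit 12000)) (n := (nat_lit 3000)) (b := (nat_lit 15000)) h c12000 rfl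
  have h := zero_lt_add (a := (nat_lit 15000)) (n := (nat_lit 3000)) (b := (nat_lit 18000)) h c15000 rfl
  have h := zero_lt_add (a := (nat_lit 18000)) (n := (nat_lit 3000)) (b := (nat_lit 21000)) h c18000 rfl
  have h := zero_lt_add (a := (nat_lit 21000)) (n := (nat_lit 3000)) (b := (nat_lit 24000)) h c21000 rfl
  have h := zero_lt_add (a := (nat_lit 24000)) (n := (nat_lit 3000)) (b := (nat_lit 27000)) h c24000 rfl
  have h := zero_lt_add (a := (nat_lit 27000)) (n := (nat_lit 3000)) (b := (nat_lit 30000)) h c27000 rfl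
  have h := zero_lt_add (a := (nat_lit 30000)) (n := (nat_lit 1671)) (b := (nat_lit 31671)) h c30000 rfl
  exact h
theorem hf3 : ∀ i < 672, f3 i = 0 := by
  have h := zero_lt_zero f3
  have h := zero_lt_add (a := (nat_lit 0)) (n := (nat_lit 32)) (b := (nat_lit 32)) h q0 rfl
  have h := zero_lt_add (a := (nat_lit 32)) (n := (nat_lit 32)) (b := (nat_lit 64)) h q32 rfl
  have h := zero_lt_add (a := (nat_lit 64)) (n := (nat_lit 32)) (b := (nat_lit 96)) h q64 rfl
  have h := zero_lt_add (a := (nat_lit 96)) (n := (nat_lit 32)) (b := (nat_lit 128)) h q96 rfl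
  have h := zero_lt_add (a := (nat_lit 128)) (n := (nat_lit 32)) (b := (nat_lit 160)) h q128 rfl
  have h := zero_lt_add (a := (nat_lit 160)) (n := (nat_lit 32)) (b := (nat_lit 192)) h q160 rfl
  have h := zero_lt_add (a := (nat_lit 192)) (n := (nat_lit 32)) (b := (nat_lit 224)) h q192 rfl
  have h := zero_lt_add (a := (nat_lit 224)) (n := (nat_lit 32)) (b := (nat_lit 256)) h q224 rfl
  have h := zero_lt_add (a := (nat_lit 256)) (n := (nat_lit 32)) (b := (nat_lit 288)) h q256 rfl
  have h := zero_lt_add (a := (nat_lit 288)) (n := (nat_lit 32)) (b := (nat_lit 320)) h q288 rfl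
  have h := zero_lt_add (a := (nat_lit 320)) (n := (nat_lit 32)) (b := (nat_lit 352)) h q320 rfl
  have h := zero_lt_add (a := (nat_lit 352)) (n := (nat_lit 32)) (b := (nat_lit 384)) h q352 rfl
  have h := zero_lt_add (a := (nat_lit 384)) (n := (nat_lit 32)) (b := (nat_lit 416)) h q384 rfl
  have h := zero_lt_add (a := (nat_lit 416)) (n := (nat_lit 32)) (b := (nat_lit 448)) h q416 rfl
  have h := zero_lt_add (a := (nat_lit 448)) (n := (nat_lit 32)) (b := (nat_lit 480)) h q448 rfl
  have h := zero_lt_add (a := (nat_lit 480)) (n := (nat_lit 32)) (b := (nat_lit 512)) h q480 rfl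
  have h := zero_lt_add (a := (nat_lit 512)) (n := (nat_lit 32)) (b := (nat_lit 544)) h q512 rfl
  have h := zero_lt_add (a := (nat_lit 544)) (n := (nat_lit 32)) (b := (nat_lit 576)) h q544 rfl
  have h := zero_lt_add (a := (nat_lit 576)) (n := (nat_lit 32)) (b := (nat_lit 608)) h q576 rfl
  have h := zero_lt_add (a := (nat_lit 608)) (n := (nat_lit 32)) (b := (nat_lit 640)) h q608 rfl
  have h := zero_lt_add (a := (nat_lit 640)) (n := (nat_lit 32)) (b := (nat_lit 672)) h q640 rfl
  exact h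
theorem hW : lin (fun j => lettE 16 (W j)) (nat_lit 0) 13 = 0 := by decide +kernel
theorem sel {K : Type*} [Group K] [Finite K] {D : Set K} {pt : ℕ → K} (F : FD D X23.T X23.P 31671 16 pt)
    (hK : Nat.card K = 4089470473293004800) {S : Set K} (hS : S ⊆ D) (hcl : ∀ x ∈ S, ∀ y ∈ S, x * y * x⁻¹ ∈ S)
    (h1 : 3 ^ 13 * 13 ∣ Nat.card (↥(Subgroup.closure S) ⧸ Subgroup.center ↥(Subgroup.closure S)))
    (h2 : ¬ 17 ∣ Nat.card (↥(Subgroup.closure S) ⧸ Subgroup.center ↥(Subgroup.closure S))) :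
    ∃ qt : ℕ → K, FD D X23.T X23.P 31671 16 qt ∧ S = qt '' {i | i < 31671 ∧ S24.Sf i = 1} := by
  have h3 := h1.trans (Subgroup.card_quotient_dvd_card _)
  have hO : ∀ c < 31671, ltE (O c) 7 = 0 := fun c hc => (add_eq_zero' (add_eq_zero' (hf2 c hc)).2).1
  have hc : ∀ c < 31671, clsE (fun j => tr X23.T (W j)) 13 O rt U c = 0 := fun c hc => (add_eq_zero' (hf2 c hc)).1
  obtain ⟨qt, F', M, hM, h4⟩ := sel_main F X23.dsc (X23.base F) X23.Bs_lt hcl (a := 13) (by rw [hK]; norm_num)
    ((Dvd.intro _ rfl).trans h3) hW (by norm_num) hf1 hc hO (Ru := Ru) (L := L) (by decide +kernel) (by decide +kernel)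
  have h5 : 13 ∣ Nat.card (Subgroup.closure S) := (Dvd.intro_left _ rfl).trans h3
  have h6 : (∀ k < 7, M.testBit k = true → (72 : ℕ).testBit k = true) → False := fun e =>
    absurd (h5.trans (sel_solv F' X23.dsc (X23.base F') X23.Bs_lt hS h4 e hW hc hO (W' := W2) (r' := 21)
      (by decide +kernel) (by norm_num) hf3 (Y := Y) (Z := Z) (by decide +kernel) (by decide +kernel))) (by decide +kernel)
  simp only [L, List.mem_cons, List.not_mem_nil, or_false] at hM
  rcases hM with rfl | rfl | rfl | rfl | rfl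
  · rw [sel_empty F' hS h4] at h5; omega
  · exact (h6 (by decide +kernel)).elim
  · exact (h6 (by decide +kernel)).elim
  · exact ⟨qt, F', sel_fin (ρ := fun i => i) F' hS (fun _ h => h) h4 fun c hc => (add_eq_zero' (add_eq_zero' (hf2 c hc)).2).2⟩
  · rw [sel_all (n := 7) F' h4 hO, hK] at h2; omega

end Cfsg.Agent.Fi.L24
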